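import Groth.Agent.RedSub.H653.SolvRed
import Groth.Agent.Sga3B.Parab.Uncond688
import Groth.Agent.Sga3B.Parab.K3b143
import Groth.Agent.Sga3B.Parab.PcU
import Groth.Agent.Sga3B.Parab.DynGeom678
import Groth.Agent.Sga3B.TorusEtSplit
import Groth.Agent.Sga3B.MT.TorusFam
import Groth.Agent.Sga3B.SplitBc264
import Groth.Agent.Sga3B.MaxTorNear900
import Groth.Agent.S2958

/-!
# If the Borel subgroup `B` is `P_G(λ)` then `Z_G(λ)` is a maximal torus

Over an arbitrary base scheme.

* `isTorus_of_geomFibres`: a reductive group scheme whose geometric fibres are tori is a torus;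
* `isTorus_of_isSolvable_geomFibres`: a reductive group scheme with solvable geometric fibres is a
  torus;
* `isMaximalTorus_of_isDynZ`: if `i : B ⟶ G` is a Borel subgroup of the reductive group `G` and
  `B = P_G(λ)` then `Z_G(λ)` is a maximal torus of `G`.
-/

set_option autoImplicit false

universe u

open CategoryTheory MonoidalCategory CartesianMonoidalCategory MonObj GrpObj AlgebraicGeometry
open Groth.Agent.Sga3B Groth.Agent.Sga3B.Parab Groth.Agent.Sga3B.ResAlg

namespace Groth.Agent.RedSub.H653.BorelZ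

section Torus

variable {S : Scheme.{u}} {L : Over S} [GrpObj L]

/-- **A reductive group scheme whose geometric fibres are tori is a torus.** -/
theorem isTorus_of_geomFibres (hL : Red.IsReductive L)
    (h : ∀ s : S, Red.IsTorus (Red.geomFibre s L)) : Red.IsTorus L := by
  choose U f hf hs D using fun s : S => Groth.Agent.S2958.result L hL s
  refine MT.isTorus_of_family (J := S) f (fun j => inferInstance)
    (fun j => (f j).isOpenMap) (fun s => ⟨s, hs s⟩) fun j => ?_
  obtain ⟨D⟩ := D j
  have hm : IsMonHom D.i := D.maximalTorus.1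
  have hLU : Red.IsReductive (Red.bc (f j) L) := D.reductive
  have h1 : Smooth D.T.hom := TorusAlgClosed.smooth_of_isTorus D.maximalTorus.2.2.1
  have h2 : Smooth (Red.bc (f j) L).hom := hLU.2.1
  have h3 : IsIso D.i := by
    refine TorusEtSplit.isIso_of_geomFibres D.i fun s => ?_
    have hT : Red.IsTorus (Red.geomFibre s (Red.bc (f j) L)) := by
      obtain ⟨θ, hθ, hh⟩ := exists_iso_geomPt (f j) s
      exact TorusBc.isTorus_of_iso (BcNat.fibIso hh L).symm (TorusBc.isTorus_bc θ (h (f j s)))
    exact D.maximalTorus.2.2.2 s _ (𝟙 _) ((Over.pullback (Red.geomPt s)).map D.i) hT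
      (Category.comp_id _)
  have h4 : IsMonHom (asIso D.i).hom := hm
  exact TorusBc.isTorus_of_iso (Grp.mkIso' (asIso D.i)) D.maximalTorus.2.2.1

/-- **A reductive group scheme with solvable geometric fibres is a torus.** -/
theorem isTorus_of_isSolvable_geomFibres (hL : Red.IsReductive L)
    (h : ∀ s : S, Red.IsSolvableGrp (Red.geomFibre s L)) : Red.IsTorus L :=
  isTorus_of_geomFibres hL fun s => SolvRed.isTorus_of_isSolvableGrp _ (hL.2.2 s) (h s)

end Torus

section Borel

variable {S : Scheme.{u}} {G B Z : Over S} [GrpObj G] [GrpObj B] [GrpObj Z]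

/-- If `B = P_G(λ)` is a Borel subgroup then `Z_G(λ)` is a torus. -/
theorem isTorus_of_isDynZ (hG : Red.IsReductive G) (i : B ⟶ G) (hB : Red.IsBorel i)
    (lam : Red.Gm S ⟶ G) [IsMonHom lam] (hp : IsDynP lam i) (z : Z ⟶ G) (hz : IsDynZ lam z) :
    Red.IsTorus Z := by
  refine isTorus_of_isSolvable_geomFibres (isReductive_of_isDynZ lam K3b143.dynK3 hG z hz)
    fun s => ?_
  obtain ⟨z', rfl⟩ := DynLevi998.exists_zP hp hz
  have h1 : IsMonHom z' := DynLevi998.isMonHom_zP hp hz
  have h2 : Mono (z' ≫ i) := hz.mono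
  have h3 : Mono z' := mono_of_mono z' i
  exact SolvRed.isSolvableGrp_of_mono ((Over.pullback (Red.geomPt s)).map z')
    (hB.2.2.2 s).2.2.2.2.1

/-- **If `B = P_G(λ)` is a Borel subgroup then `Z_G(λ)` is a maximal torus.** -/
theorem isMaximalTorus_of_isDynZ (hG : Red.IsReductive G) (i : B ⟶ G) (hB : Red.IsBorel i)
    (lam : Red.Gm S ⟶ G) [IsMonHom lam] (hp : IsDynP lam i) (z : Z ⟶ G) (hz : IsDynZ lam z) :
    Red.IsMaximalTorus z := by
  have hT := isTorus_of_isDynZ hG i hB lam hp z hz
  have hZ := (DynExist998.isDynZ_iff z).1 hz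
  obtain ⟨mu, hmu, hmz⟩ := DynClosed998.exists_lamZ hz
  refine SplitBc264.isMaximalTorus_of_isCentralizerOf hT ⟨hZ.1, hZ.2.1, fun X g => ⟨?_, fun h => ?_⟩⟩
  · rintro ⟨x, rfl⟩ X' y t
    have hm := hZ.1
    rw [← Category.assoc, ← MonObj.mul_comp, ← MonObj.mul_comp,
      MaxTorNear900.mul_comm_of_isTorus hT]
  · refine (hZ.2.2 X g).2 fun X' x t => ?_
    have := h X' x (t ≫ mu)
    rwa [Category.assoc, hmz] at this

end Borel

end Groth.Agent.RedSub.H653.BorelZ
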