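import Groth.Agent.Sga3B.Parab.PbAll910
import Groth.Agent.Sga3B.RG.NonComm
import Groth.Agent.Sga3B.RG.CentMax
import Groth.Agent.Sga3B.RG.DynUnip
import Groth.Agent.Sga3B.RG.BrHc
import Groth.Agent.Sga3B.RG.BrTorus
import Groth.Agent.Sga3B.Parab.BorelPts172
import Groth.Agent.Sga3B.ParBc
import Groth.Agent.Sga3B.TorusBc

/-!
# Solvable reductive groups over an algebraically closed field are tori

* `Zsub_eq_top`: in a connected reductive group whose group of points is solvable every
  cocharacter is central;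
* `isTorusSub_top`: such a group of points is a torus;
* `isTorus_of_solvable`: scheme form.
-/

set_option autoImplicit false

universe u

open CategoryTheory MonoidalCategory CartesianMonoidalCategory MonObj GrpObj AlgebraicGeometry
open Groth.Agent.Books.AffBridge Groth.Agent.Books.AffBridge2
open Groth.Agent.Sga3B.RG Groth.Agent.Sga3B.RG.BrPts Groth.Agent.Sga3B.Parab.BorelPts172
open Groth.Agent.Sga3B.Parab
open scoped LaurentPolynomial

namespace Groth.Agent.RedSub.H653.SolvRed

section Pts

variable {K : Type u} [Field K] [IsAlgClosed K] {A : Type u} [CommRing A] [HopfAlgebra K A]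
  [Algebra.FiniteType K A] [IsDomain A]

lemma isCCS_top (hs : Group.IsSolvable (Pt K A)) : IsCCS (⊤ : Subgroup (Pt K A)) where
  isCl := fun _ _ => trivial
  isConn := by
    rw [Subgroup.coe_top]
    exact isConn_univ
  isSolvable := Group.isSolvable_of_isSolvable_injective
    (f := (⊤ : Subgroup (Pt K A)).subtype) (Subgroup.subtype_injective _)

/-- In a connected reductive group with solvable group of points all cocharacters are central. -/
theorem Zsub_eq_top (hred : IsRedPt K A) (hs : Group.IsSolvable (Pt K A))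
    (lam : A →ₐc[K] K[T;T⁻¹]) : Zsub lam = ⊤ := by
  by_contra hZ
  apply NC.Usub_inv_ne_bot hred (lam := lam) (fun g hg => isUnip_of_mem_Usub hg) hZ
  obtain ⟨B, hB, hle⟩ := PbAll.k1 K A hred lam
  have h1 : (⊤ : Subgroup (Pt K A)) = B := hB.max _ (isCCS_top hs) le_top
  have h2 : Psub lam = ⊤ := by
    rw [eq_top_iff, h1]
    exact hle
  have h3 := NC.Usub_inv_inf_Psub lam
  rwa [h2, inf_top_eq] at h3

/-- **A connected reductive group with solvable group of points is a torus.** -/
theorem isMaxTorusSub_top (hred : IsRedPt K A) (hs : Group.IsSolvable (Pt K A)) :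
    IsMaxTorusSub (⊤ : Subgroup (Pt K A)) := by
  obtain ⟨T, hT⟩ := exists_isMaxTorusSub K A
  obtain ⟨lam, hlT, hlam⟩ := hT.1.exists_coch
  have h1 := K8.centralizer_eq hred hT
  rw [hlam, Zsub_eq_top hred hs] at h1
  rw [h1]
  exact hT

end Pts

section Scheme

/-- A subgroup of a solvable group scheme is solvable. -/
theorem isSolvableGrp_of_mono {S : Scheme.{u}} {H G : Over S} [GrpObj H] [GrpObj G] (i : H ⟶ G)
    [IsMonHom i] [Mono i] (h : Red.IsSolvableGrp G) : Red.IsSolvableGrp H := by
  obtain ⟨n, hn⟩ := h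
  refine ⟨n, fun X => ?_⟩
  let f : (X ⟶ H) →* (X ⟶ G) :=
    { toFun := fun x => x ≫ i
      map_one' := MonObj.one_comp i
      map_mul' := fun x y => MonObj.mul_comp x y i }
  have hf : Function.Injective f := fun x y hxy => (cancel_mono i).1 hxy
  have h1 := map_derivedSeries_le_derivedSeries f n
  rw [hn X, le_bot_iff] at h1
  rwa [Subgroup.map_eq_bot_iff_of_injective _ hf] at h1

variable {K : Type u} [Field K] [IsAlgClosed K]

/-- **A solvable reductive group over an algebraically closed field is a torus.** -/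
theorem isTorus_of_isSolvableGrp (L : Over (Spec (CommRingCat.of K))) [GrpObj L]
    (h : Red.IsReductiveOver K L) (hs : Red.IsSolvableGrp L) : Red.IsTorus L := by
  obtain ⟨A, _, _, e, he, hft, hdom, hred⟩ := BrHc.exists_hopf_of_isReductiveOver L h
  have hs' : Red.IsSolvableGrp (SpecOver K A) :=
    Groth.Agent.Sga3B.ParBc.isSolvableGrp_of_iso (Grp.mkIso' e) hs
  have h1 : Group.IsSolvable (Pt K A) := by
    obtain ⟨n, hn⟩ := hs'
    have h2 : Group.IsSolvable (𝟙_ (Over (Spec (CommRingCat.of K))) ⟶ SpecOver K A) := ⟨⟨n, hn _⟩⟩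
    exact Group.isSolvable_of_surjective (f := (ptEquiv K A).symm.toMonoidHom)
      (ptEquiv K A).symm.surjective
  obtain ⟨T', _, j, _, hT', hcl, hj⟩ := BrTorus.exists_of_isTorusSub (isMaxTorusSub_top hred h1).1
  have hsm : Smooth L.hom := h.2.1
  obtain ⟨f, hf⟩ := exists_factor_of_le e.hom j (by rw [hj]; exact le_top)
  have hm : Mono j := Groth.Agent.Books.AlgPtsGrp.mono_of_isClosedImmersion j
  have h3 : (e.inv ≫ f) ≫ j = 𝟙 _ := by rw [Category.assoc, hf, Iso.inv_hom_id]
  have h4 : IsIso j := ⟨e.inv ≫ f, by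
    rw [← cancel_mono j, Category.assoc, h3, Category.comp_id, Category.id_comp], h3⟩
  have h5 : IsMonHom (asIso j).hom := inferInstanceAs (IsMonHom j)
  exact Groth.Agent.Sga3B.TorusBc.isTorus_of_iso (Grp.mkIso' (asIso j) ≪≫ (Grp.mkIso' e).symm) hT'

end Scheme

end Groth.Agent.RedSub.H653.SolvRed
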